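import Groth.Agent.H17.Seshadri.Jets
import Groth.Agent.H17.PullSectLocal
import Groth.Agent.LeadBC.TensorSect

/-!
# Separation of jets and tensor products
-/

set_option autoImplicit false
set_option linter.style.haveILetI false
set_option linter.unusedSectionVars false

universe u

open CategoryTheory CategoryTheory.Limits AlgebraicGeometry Opposite TopologicalSpace
open scoped TensorProduct

namespace Groth.Agent.H23Jets

variable {X : Scheme.{u}}

/-- Every section over `U` is congruent modulo `J ^ n` to the restriction of a global section. -/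
def Lifts (M : X.Modules) (U : X.Opens) (J : Ideal Γ(X, U)) (n : ℕ) (s : Γ(M, U)) : Prop :=
  ∃ g : Γ(M, ⊤), M.presheaf.map (homOfLE (le_top : U ≤ ⊤)).op g - s ∈
    J ^ n • (⊤ : Submodule Γ(X, U) Γ(M, U))

theorem separatesJets_iff (M : X.Modules) (hM : M.IsQuasicoherent) (x : X) (hx : IsClosed ({x} : Set X))
    (l : ℕ) (U : X.affineOpens) (hxU : x ∈ U.1) :
    W4c2seshadripos.SeparatesJets M x hx l ↔
      ∀ s, Lifts M U.1 ((W4c2seshadripos.pointIdeal x hx).ideal U) (l + 1) s := by
  let I := W4c2seshadripos.pointIdeal x hx ^ (l + 1)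
  let ι := I.subschemeι
  have hpre : ι ⁻¹ᵁ (⊤ : X.Opens) ≤ ι ⁻¹ᵁ U.1 := fun z _ => by
    have hz : ι z ∈ (I.support : Set X) := I.range_subschemeι.le ⟨z, rfl⟩
    simp only [I, Scheme.IdealSheafData.support_pow_succ] at hz
    show ι z ∈ U.1
    rw [(H17.Seshadri.mem_support_pointIdeal x hx _).1 hz]
    exact hxU
  let P := (Scheme.Modules.pullback ι).obj M
  obtain ⟨hsurj, hker⟩ := H17.PullSect.isQuotOn_of_isAffineOpen ι M hM U.2
  have hI : RingHom.ker (ι.app U.1).hom = ((W4c2seshadripos.pointIdeal x hx).ideal U) ^ (l + 1) :=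
    I.ker_subschemeι_app U
  -- the restriction map of sections
  have hval : ∀ t, H10Coh.HH0Equiv ((Scheme.Modules.pushforward ι).obj P) (W4c2seshadripos.resH I M t) =
      OmegaSh.pullSect ι M ⊤ (H10Coh.HH0Equiv M t) := fun t =>
    H17.Seshadri.HH0Equiv_natural ((Scheme.Modules.pullbackPushforwardAdjunction ι).unit.app M) t
  constructor
  · intro h s
    let z : Γ(P, ι ⁻¹ᵁ ⊤) := P.presheaf.map (homOfLE hpre).op (OmegaSh.pullSect ι M U.1 s)
    obtain ⟨t, ht⟩ := h ((H10Coh.HH0Equiv ((Scheme.Modules.pushforward ι).obj P)).symm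
      (show Γ((Scheme.Modules.pushforward ι).obj P, ⊤) from z))
    have hg : OmegaSh.pullSect ι M ⊤ (H10Coh.HH0Equiv M t) = z := by
      rw [← hval]
      exact (congrArg (H10Coh.HH0Equiv ((Scheme.Modules.pushforward ι).obj P)) ht).trans
        (AddEquiv.apply_symm_apply (H10Coh.HH0Equiv ((Scheme.Modules.pushforward ι).obj P)) _)
    refine ⟨H10Coh.HH0Equiv M t, hI ▸ hker _ ?_⟩
    rw [map_sub, H11Tilde.pullSect_res ι M (le_top : U.1 ≤ ⊤), hg, sub_eq_zero]
    show P.presheaf.map _ (P.presheaf.map _ _) = _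
    rw [H10Coh.mres_mres]
    exact H10Coh.mres_self P _ _
  · intro h y
    let z : Γ(P, ι ⁻¹ᵁ ⊤) := H10Coh.HH0Equiv ((Scheme.Modules.pushforward ι).obj P) y
    obtain ⟨s, hs⟩ := hsurj (P.presheaf.map (homOfLE (ι.preimage_mono (le_top : U.1 ≤ ⊤))).op z)
    obtain ⟨g, hg⟩ := h s
    refine ⟨(H10Coh.HH0Equiv M).symm g,
      (H10Coh.HH0Equiv ((Scheme.Modules.pushforward ι).obj P)).injective ?_⟩
    rw [hval, AddEquiv.apply_symm_apply]
    have h0 : OmegaSh.pullSect ι M U.1 (M.presheaf.map (homOfLE (le_top : U.1 ≤ ⊤)).op g - s) = 0 := by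
      refine Submodule.smul_induction_on hg (fun r hr m _ => ?_) (fun a b ha hb => by
        rw [map_add, ha, hb, add_zero])
      rw [← hI] at hr
      rw [OmegaSh.pullSect_smul, show ι.app U.1 r = 0 from hr]
      exact zero_smul _ _
    rw [map_sub, sub_eq_zero, hs, H11Tilde.pullSect_res ι M (le_top : U.1 ≤ ⊤)] at h0
    have h1 := congrArg (fun w => P.presheaf.map (homOfLE hpre).op w) h0
    simp only [H10Coh.mres_mres] at h1
    show OmegaSh.pullSect ι M ⊤ g = z
    exact (H10Coh.mres_self P _ _).symm.trans ((H10Coh.mres_mres P _ _ _).symm.trans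
      (h1.trans (H10Coh.mres_self P _ _)))

variable {F G : X.Modules}

theorem tm_sub_split {U : X.Opens} (a a' : Γ(F, U)) (b b' : Γ(G, U)) :
    H11Ample.tm a b - H11Ample.tm a' b' = H11Ample.tm (a - a') b + H11Ample.tm a' (b - b') := by
  have e1 := H11Ample.tm_add_left (a - a') a' b
  have e2 := H11Ample.tm_add_right a' (b - b') b'
  rw [sub_add_cancel] at e1 e2
  rw [e1, e2]
  abel

theorem tm_mem {U : X.Opens} {J K : Ideal Γ(X, U)} {a : Γ(F, U)} {b : Γ(G, U)}
    (ha : a ∈ J • (⊤ : Submodule Γ(X, U) Γ(F, U))) (hb : b ∈ K • (⊤ : Submodule Γ(X, U) Γ(G, U))) :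
    H11Ample.tm a b ∈ (J * K) • (⊤ : Submodule Γ(X, U) Γ(CohB1.tensorMod F G, U)) := by
  refine Submodule.smul_induction_on ha (fun r hr m _ => ?_) (fun p q hp hq => by
    rw [H11Ample.tm_add_left]; exact add_mem hp hq)
  refine Submodule.smul_induction_on hb (fun r' hr' n _ => ?_) (fun p q hp hq => by
    rw [H11Ample.tm_add_right]; exact add_mem hp hq)
  rw [H11Ample.tm_smul_left, H11Ample.tm_smul_right, smul_smul]
  exact Submodule.smul_mem_smul (Ideal.mul_mem_mul hr hr') trivial

variable [F.IsQuasicoherent] [G.IsQuasicoherent]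

theorem lifts_tensor {U : X.Opens} (hU : IsAffineOpen U) (J : Ideal Γ(X, U)) (i j : ℕ)
    (hF : ∀ s, Lifts F U J (i + 1) s) (hG : ∀ s, Lifts G U J (j + 1) s) (s : Γ(CohB1.tensorMod F G, U)) :
    Lifts (CohB1.tensorMod F G) U J (i + j + 1) s := by
  let T := CohB1.tensorMod F G
  have hadd : ∀ {n : ℕ} {a b : Γ(T, U)}, Lifts T U J n a → Lifts T U J n b → Lifts T U J n (a + b) := by
    rintro n a b ⟨g, hg⟩ ⟨g', hg'⟩
    refine ⟨g + g', ?_⟩
    rw [map_add, add_sub_add_comm]
    exact add_mem hg hg'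
  suffices key : ∀ t, t ≤ i + j + 1 → ∀ w ∈ J ^ t • (⊤ : Submodule Γ(X, U) Γ(T, U)),
      Lifts T U J (i + j + 1) w from
    key 0 (Nat.zero_le _) s (by simp)
  intro t ht
  induction ht using Nat.decreasingInduction with
  | self =>
    intro w hw
    exact ⟨0, by rw [map_zero, zero_sub]; exact neg_mem hw⟩
  | of_succ t ht ih =>
    intro w hw
    refine Submodule.smul_induction_on hw (fun r hr m _ => ?_) fun a b ha hb => hadd ha hb
    obtain ⟨m', rfl⟩ := (LeadBC.bijective_mulSect F G U hU).2 m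
    induction m' using TensorProduct.induction_on generalizing r with
    | zero =>
      rw [map_zero, smul_zero]
      exact ⟨0, by rw [map_zero, sub_zero]; exact zero_mem _⟩
    | add a b ha hb => rw [map_add, smul_add]; exact hadd (ha r hr trivial) (hb r hr trivial)
    | tmul a b =>
      rw [LeadBC.mulSect_tmul]
      obtain ⟨p, q, rfl, hp, hq⟩ : ∃ p q, p + q = t ∧ p ≤ i ∧ q ≤ j :=
        ⟨min t i, t - min t i, by omega, by omega, by omega⟩
      rw [pow_add] at hr
      refine Submodule.mul_induction_on hr (fun c hc d hd => ?_) fun c d hc hd => by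
        rw [add_smul]; exact hadd hc hd
      rw [← smul_smul, ← H11Ample.tm_smul_right, ← H11Ample.tm_smul_left]
      have hca : c • a ∈ J ^ p • (⊤ : Submodule Γ(X, U) Γ(F, U)) := Submodule.smul_mem_smul hc trivial
      have hdb : d • b ∈ J ^ q • (⊤ : Submodule Γ(X, U) Γ(G, U)) := Submodule.smul_mem_smul hd trivial
      obtain ⟨g, hg⟩ := hF (c • a)
      obtain ⟨h, hh⟩ := hG (d • b)
      have hhq : G.presheaf.map (homOfLE (le_top : U ≤ ⊤)).op h ∈ J ^ q • (⊤ : Submodule Γ(X, U) Γ(G, U)) := by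
        have := add_mem (Submodule.smul_mono_left (Ideal.pow_le_pow_right (show q ≤ j + 1 by omega)) hh) hdb
        rwa [sub_add_cancel] at this
      have hdiff : T.presheaf.map (homOfLE (le_top : U ≤ ⊤)).op (H11Ample.tm g h) - H11Ample.tm (c • a) (d • b) ∈
          J ^ (p + q + 1) • (⊤ : Submodule Γ(X, U) Γ(T, U)) := by
        rw [H11Ample.tm_res, tm_sub_split]
        refine add_mem (Submodule.smul_mono_left ?_ (tm_mem hg hhq)) (Submodule.smul_mono_left ?_ (tm_mem hca hh))
        · rw [← pow_add]; exact Ideal.pow_le_pow_right (by omega)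
        · rw [← pow_add]; exact Ideal.pow_le_pow_right (by omega)
      obtain ⟨g', hg'⟩ := ih _ (neg_mem hdiff)
      refine ⟨g' + H11Ample.tm g h, ?_⟩
      convert hg' using 1
      rw [map_add]
      abel

theorem separatesJets_tensor (x : X) (hx : IsClosed ({x} : Set X)) (i j : ℕ)
    (hi : W4c2seshadripos.SeparatesJets F x hx i) (hj : W4c2seshadripos.SeparatesJets G x hx j) :
    W4c2seshadripos.SeparatesJets (CohB1.tensorMod F G) x hx (i + j) := by
  obtain ⟨U, hU, hxU, -⟩ := exists_isAffineOpen_mem_and_subset (x := x) (U := (⊤ : X.Opens)) trivial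
  rw [separatesJets_iff F inferInstance x hx i ⟨U, hU⟩ hxU] at hi
  rw [separatesJets_iff G inferInstance x hx j ⟨U, hU⟩ hxU] at hj
  rw [separatesJets_iff _ (H10Coh.TT.isQCoh_tensorMod F G) x hx (i + j) ⟨U, hU⟩ hxU]
  exact lifts_tensor hU _ i j hi hj

end Groth.Agent.H23Jets
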